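import Cfsg.Agent.Mrg.Omega.NO3S.Fld.LevEnd
import Cfsg.Agent.Mrg.Omega.NO3S.Act.Dich
import Cfsg.Agent.Mrg.Omega.NO3S.Pas.Inst
import Cfsg.Agent.Mrg.Omega.NO3S.Act.NTwo.CaseOne
import Cfsg.Agent.Mrg.Omega.NO3S.Act.OneSym
import Cfsg.Agent.Mrg.Omega.NO3S.Pas.PasN
import Cfsg.Agent.Mrg.Omega.NO3S.GFF.S1.Four

-- merged: Cfsg.Agent.Mrg.Omega.NO3S.Act.GamUniq
section

/-!
# GammaFF: the socket `GamUniq` (UNIQ) from `⟨Z^⟨P*(S)⟩⟩ ≤ E`

* `WSt.wfr` : the front `Pas.WFr S M₀ X₀ F` of the W-stage;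
* `WSt.uniq_of_le` : `⟨Z^⟨P*(S)⟩⟩ ≤ E_F`, `W_F ≤ S` moves `V_P`, `C_Z(P) = 1` ⟹ `V_P = ⟨Z^⟨P*(S)⟩⟩` is FF and all
  members of `P*(S)` normalise it;
* `gamUniq_of_le` : `GamUniq K`, if `⟨Z^⟨P*(S)⟩⟩ ≤ E_F` (or `G` is known).
-/

set_option autoImplicit false

namespace Cfsg.Agent.Omega.NO3S

open Subgroup Cfsg Cfsg.Agent.ZN Cfsg.Agent.Omega.MinPar Cfsg.Agent.Omega.Frame Cfsg.Agent.Omega.FrameNOFF
open Cfsg.Agent.Omega.FrameFF (cv)
open Cfsg.Agent.Omega.FFThm (OffM)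
open Cfsg.Agent.Omega.NO3S.Level
open Cfsg.Agent.Omega.NOThreeL.Merge (MZ)

universe u

set_option maxHeartbeats 400000

section

variable {G : Type u} [Group G] [Finite G] {S : Sylow 2 G} {P F : Subgroup G}

/-- The front of the W-stage. -/
theorem Level.WSt.wfr (h : WSt S P F) : Pas.WFr S (M0 (S : Subgroup G)) (X0 (S : Subgroup G)) F where
  hc := h.ctx.char2
  noff := h.noFF
  low := h.low
  hyp := h.hyp
  PM := fun _ hR => par_le hR
  MV := M0_norm _
  ZV := zc_le_X0 h.hj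
  WS := h.WS

theorem Level.WSt.cv_eq (h : WSt S P F) (h0 : zc (S : Subgroup G) ⊓ centralizer (P : Set G) = ⊥) :
    cv (S : Subgroup G) P = ⊥ := NoFF.LinesPlug.inf_oddGen_eq_bot h.ctx.char2 S h.par.toIsPar h0

/-- UNIQ from `⟨Z^⟨P*(S)⟩⟩ ≤ E`. -/
theorem Level.WSt.uniq_of_le (h : WSt S P F) (h0 : zc (S : Subgroup G) ⊓ centralizer (P : Set G) = ⊥)
    (hE : zl (S : Subgroup G) (MZ (S : Subgroup G)) ≤ NOne.Flat.EE (X0 (S : Subgroup G)) F) :
    FFMod (S : Subgroup G) P ∧ ∀ R, IsParS (S : Subgroup G) R → R ≤ normalizer (zl (S : Subgroup G) P : Set G) := by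
  have a := h.wfr.act h.par (h.cv_eq h0) h.mv
  have hPM : P ≤ MZ (S : Subgroup G) := le_sSup h.par
  refine ⟨⟨_, h.WS, a.offM⟩, ?_⟩
  -- `W` offends on `⟨Z^⟨P*(S)⟩⟩`
  have hmov : ¬ NOne.Flat.WW (X0 (S : Subgroup G)) F ≤
      centralizer (zl (S : Subgroup G) (MZ (S : Subgroup G)) : Set G) := fun h1 =>
    a.mov (h1.trans (centralizer_le (AllGood.zl_mono hPM)))
  obtain ⟨R, hR, he⟩ := thmD_MZ h.toHypC h.ty ⟨_, (h.WS.trans h.par.le).trans hPM, AllGood.offM_of_le a hE hmov⟩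
  have aR : BetaFF.Act S R (X0 (S : Subgroup G)) F := by
    refine h.wfr.act hR.par (h.toHypC.hypN hR.par hR.nonLoc).toHyp.cen fun h1 => hmov ?_
    rw [he]
    rw [← IsParS.inf_centralizer S h.ctx.char2 hR.par] at h1
    exact h1.trans inf_le_right
  have h1 : zl (S : Subgroup G) (R ⊔ P) ≤ NOne.Flat.EE (X0 (S : Subgroup G)) F :=
    (AllGood.zl_mono (sup_le (le_sSup hR.par) hPM)).trans hE
  have h2 := AllGood.eq_of_good FF.Glob.ffthmM aR a h1
  intro R' hR'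
  rw [h2, ← he]
  exact (le_sSup hR' : R' ≤ MZ (S : Subgroup G)).trans (ZN.le_normalizer_zl _ _)

end

/-- `GamUniq K`, if `⟨Z^⟨P*(S)⟩⟩ ≤ E_F` or `G` is known. -/
theorem gamUniq_of_le (K : Cls.{u}) (H : ∀ (G : Type u) [Group G] [Finite G], K G → ∀ (S : Sylow 2 G) (P F : Subgroup G),
    WSt S P F → zc (S : Subgroup G) ⊓ centralizer (P : Set G) = ⊥ →
      zl (S : Subgroup G) (MZ (S : Subgroup G)) ≤ NOne.Flat.EE (X0 (S : Subgroup G)) F ∨ IsKnownSimple' G) :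
    GamUniq K := fun G _ _ hK S P F h h0 =>
  (H G hK S P F h h0).imp (fun hE => h.uniq_of_le h0 hE) id

end Cfsg.Agent.Omega.NO3S

end

-- merged: Cfsg.Agent.Mrg.Omega.NO3S.Act.NTwo.Inst
section

section


/-!
# GammaFF: the instance of THEOREM N (#21337) over the front `Low.Fr S M V F n`, `n ≥ 2`

* `ch_conj`, `WFr.conj`, `fr_conj` : `F ↦ F^m`, `m ∈ M`;
* `min_of_const` : an offender `A ≤ S` on `V_P` with constant commutators is a minimal offender;
* `const_conj`, `dich` : every `W^m ≤ S`, `m ∈ M`, centralises `V_P` or is a minimal offender on `V_P`;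
* `I_le` : `|I : F| ≤ |V_P : V_P ∩ F|`; `I_eq` : `I = V_P F`;
* `sit` : 422's `Sit`; `norm_le` : `P' ≤ N(V_P)` for passive `P'`;
* `all_good` : all lines are good.
-/

set_option autoImplicit false
set_option linter.unusedSectionVars false

namespace Cfsg.Agent.Omega.NO3S.NTwo

open Subgroup Cfsg Cfsg.Agent.ZN Cfsg.Agent.Omega.MinPar Cfsg.Agent.Omega.Frame Cfsg.Agent.Omega.FrameNOFF
open Cfsg.Agent.Omega.NOne.Flat (Hyp EE NN BadX Cos card_mul_relIndex' conj_eq_of_norm conj_centralizer WW_conj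
  EE_conj conj_eq_of_cent)
open Cfsg.Agent.Omega.NOne.NearFF (c c_def)
open Cfsg.Agent.Omega.NoFF.Basic (conj_conj mem_conj conj_le_iff conj_le_centralizer comm_symm Gal)
open Cfsg.Agent.Omega.NOThreeL.Low (Tp Blk Fr Ch BB)
open Cfsg.Agent.Omega.NOThreeL.Low.Key (BH)
open Cfsg.Agent.Omega.FrameFF (cv)
open Cfsg.Agent.Omega.FFThm (OffM NoOverM ConclM StmtM)
open Cfsg.Agent.Omega.NOThreeL.NF (MinOffM)
open Cfsg.Agent.Omega.NOThreeL.NF.NatR (Const)
open Cfsg.Agent.Omega.NO3S.Pas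
open scoped Pointwise commutatorElement

universe u

local notation "Wf" => Cfsg.Agent.Omega.NOne.Flat.WW

variable {G : Type u} [Group G] [Finite G] {S : Sylow 2 G} {P V F : Subgroup G}

/-! ### conjugation of the front -/

theorem ch_conj {M : Subgroup G} {W : Subgroup G} {j : ℕ} {g m : G} (hm : m ∈ M)
    (h : Ch M (S : Subgroup G) W j g) : Ch M (S : Subgroup G) (MulAut.conj m • W) j (m * g) := by
  obtain ⟨a, ha, haW, hg⟩ := h
  refine ⟨m * a, mul_mem hm ha, ?_, hg.mul_left m⟩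
  rw [← conj_conj]
  exact conj_le_iff.2 haW

theorem ch_conj' {M : Subgroup G} {W : Subgroup G} {j : ℕ} {g m : G} (hm : m ∈ M)
    (h : Ch M (S : Subgroup G) (MulAut.conj m • W) j g) : Ch M (S : Subgroup G) W j (m⁻¹ * g) := by
  have h1 := ch_conj (inv_mem hm) h
  rwa [conj_conj, inv_mul_cancel, map_one, one_smul] at h1

theorem conj_le_inv {m : G} {A B : Subgroup G} (h : MulAut.conj m • A ≤ B) : A ≤ MulAut.conj m⁻¹ • B := by
  have h1 := conj_le_iff (g := m⁻¹).2 h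
  rwa [conj_conj, inv_mul_cancel, map_one, one_smul] at h1

theorem conj_inv_le {m : G} {A B : Subgroup G} (h : MulAut.conj m⁻¹ • A ≤ B) : A ≤ MulAut.conj m • B := by
  have h1 := conj_le_iff (g := m).2 h
  rwa [conj_conj, mul_inv_cancel, map_one, one_smul] at h1

theorem wfr_conj {M : Subgroup G} (w : WFr S M V F) {m : G} (hm : m ∈ M)
    (hW : MulAut.conj m • Wf V F ≤ (S : Subgroup G)) : WFr S M V (MulAut.conj m • F) where
  hc := w.hc
  noff := w.noff
  low := w.low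
  hyp := w.hyp.conj (w.MV hm)
  PM := w.PM
  MV := w.MV
  ZV := w.ZV
  WS := by rw [← WW_conj (w.MV hm)]; exact hW

theorem fr_conj {M : Subgroup G} {n : ℕ} (h : Fr S M V F n) {m : G} (hm : m ∈ M)
    (hone : Ch M (S : Subgroup G) (Wf V F) n m⁻¹) : Fr S M V (MulAut.conj m • F) n where
  hc := h.hc
  noff := h.noff
  hyp := h.hyp.conj (h.MV hm)
  PM := h.PM
  MV := h.MV
  ZV := h.ZV
  least := by
    intro j hj g hg R hR
    rw [← WW_conj (h.MV hm)] at hg
    have h1 := h.least j hj _ (ch_conj' hm hg) R hR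
    rw [← EE_conj (h.MV hm)]
    refine conj_inv_le ?_
    rwa [conj_conj]
  one := by
    rw [← WW_conj (h.MV hm)]
    have h1 := ch_conj hm hone
    rwa [mul_inv_cancel] at h1

/-! ### minimal offenders -/

/-- **An offender with constant commutators is a minimal offender.** -/
theorem min_of_const (hFF : StmtM.{u}) (hc : IsCharacteristicTwoType G) (hP : IsParS (S : Subgroup G) P)
    (hcv : cv (S : Subgroup G) P = ⊥) {A : Subgroup G} (hA : A ≤ (S : Subgroup G))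
    (hoff : OffM (zl (S : Subgroup G) P) A) (hcst : Const (zl (S : Subgroup G) P) A) :
    MinOffM (zl (S : Subgroup G) P) (S : Subgroup G) A := by
  obtain ⟨-, hC⟩ := hFF G (S : Subgroup G) P (FFThm.syl_of_sylow S hP.le) hP.toIsMinPar (hP.isLoc.char2 S hc)
    ⟨A, hA.trans hP.le, hoff⟩
  have hPW : P ≤ normalizer (zl (S : Subgroup G) P : Set G) :=
    Cfsg.Agent.MinSimple.VModule.le_normalizer_zl _ _
  rcases hC with ⟨F, _, _, _, k, hk, ⟨M⟩⟩ | ⟨k, n, hk, hn, ⟨M⟩⟩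
  · rw [hcv] at M
    exact NOThreeL.NF.NatR.min_of_const hPW hP.le M hA hoff hcst
  · rw [hcv] at M
    exact NOThreeL.NF.SymRP.min_of_const M (Half.amb_of_loc hc S hP.isLoc) (by omega) hA hoff hcst

/-- `W` has constant commutators on `L ≤ I`. -/
theorem const_W {M : Subgroup G} {n : ℕ} (h : Fr S M V F n)
    (hkey : F.relIndex (V ⊓ BL M (S : Subgroup G) V F n) ≤ (EE V F).relIndex V) {L : Subgroup G}
    (hL : L ≤ V ⊓ BL M (S : Subgroup G) V F n) : Const L (Wf V F) := by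
  intro x hx hxc y hy hyc a ha
  have hF : ∀ z, z ∈ L → z ∉ centralizer (Wf V F : Set G) → z ∉ F := fun z _ hzc hzF => hzc (by
    rw [← h.hyp.cent_VW] at hzF
    exact hzF.2)
  obtain ⟨t, ht, e⟩ := fr_root h hkey (hL hx) (hF x hx hxc) (hL hy) (hF y hy hyc) ha
  refine ⟨t, ht, ?_⟩
  have e1 : a * x * a⁻¹ * x⁻¹ = (c x a)⁻¹ := by rw [c]; group
  have e2 : t * y * t⁻¹ * y⁻¹ = (c y t)⁻¹ := by rw [c]; group
  rw [e1, e2, e]

/-! ### a bad line at distance `≤ n` -/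

/-- There is a bad line at distance `≤ n` of type natural^k or `S_n^k`. -/
def BadL (M : Subgroup G) (S : Sylow 2 G) (V F : Subgroup G) (n : ℕ) : Prop :=
  ∃ j ≤ n, ∃ g, Ch M (S : Subgroup G) (Wf V F) j g ∧ ∃ R, IsParS (S : Subgroup G) R ∧ Tp (S : Subgroup G) R ∧
    ¬ MulAut.conj g • zl (S : Subgroup G) R ≤ EE V F

theorem BadL.conj {M : Subgroup G} {n : ℕ} (hMV : M ≤ normalizer (V : Set G)) (hb : BadL M S V F n) {m : G}
    (hm : m ∈ M) : BadL M S V (MulAut.conj m • F) n := by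
  obtain ⟨j, hj, g, hg, R, hR, hT, hbad⟩ := hb
  refine ⟨j, hj, m * g, ?_, R, hR, hT, ?_⟩
  · rw [← WW_conj (hMV hm)]
    exact ch_conj hm hg
  · rw [← EE_conj (hMV hm), ← conj_conj]
    exact fun h1 => hbad (conj_le_iff.1 h1)

theorem BadL.key {M : Subgroup G} {n : ℕ} (hb : BadL M S V F n) (h : Fr S M V F n) :
    F.relIndex (V ⊓ BL M (S : Subgroup G) V F n) ≤ (EE V F).relIndex V := by
  obtain ⟨j, hj, g, hg, R, hR, hT, hbad⟩ := hb
  exact fr_key h hj hg hR hT hbad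

/-- the lines of the chambers which contain `W` are in `B` -/
theorem line_le_BL {M : Subgroup G} {n : ℕ} (h : Fr S M V F n) (hn : 1 ≤ n) {g : G} (hg : g ∈ M)
    (hW : Wf V F ≤ MulAut.conj g • (S : Subgroup G)) {R : Subgroup G} (hR : IsParS (S : Subgroup G) R) :
    MulAut.conj g • zl (S : Subgroup G) R ≤ BL M (S : Subgroup G) V F n :=
  (Fr.le_BB' (h.mem_Gd_of_lt (j := 0) (by omega) ⟨g, hg, hW, Gal.zero _⟩ hR)).trans le_sup_left

theorem zl_le_BL {M : Subgroup G} {n : ℕ} (h : Fr S M V F n) (hn : 1 ≤ n)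
    (hW : Wf V F ≤ (S : Subgroup G)) {R : Subgroup G} (hR : IsParS (S : Subgroup G) R) :
    zl (S : Subgroup G) R ≤ V ⊓ BL M (S : Subgroup G) V F n := by
  have h1 := line_le_BL h hn (one_mem M) (by rw [map_one, one_smul]; exact hW) hR
  rw [map_one, one_smul] at h1
  exact le_inf (h.zl_le_V hR) h1

theorem ch_inv {M : Subgroup G} {n : ℕ} {m : G} (hm : m ∈ M) (hne : (PS (S : Subgroup G)).Nonempty)
    (hW : MulAut.conj m • Wf V F ≤ (S : Subgroup G)) : Ch M (S : Subgroup G) (Wf V F) n m⁻¹ :=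
  Ch.mono (Nat.zero_le n) hne ⟨m⁻¹, inv_mem hm, conj_le_inv hW, Gal.zero _⟩

/-- **(D)** every `W^m ≤ S`, `m ∈ M`, centralises `V_P` or is a minimal offender on `V_P`. -/
theorem dich {M : Subgroup G} {n : ℕ} (hFF : StmtM.{u}) (w : WFr S M V F) (h : Fr S M V F n) (hn : 1 ≤ n)
    (hb : BadL M S V F n) (hP : IsParS (S : Subgroup G) P) (hcv : cv (S : Subgroup G) P = ⊥) {m : G} (hm : m ∈ M)
    (hW : MulAut.conj m • Wf V F ≤ (S : Subgroup G))
    (hmov : ¬ MulAut.conj m • Wf V F ≤ centralizer (zl (S : Subgroup G) P : Set G)) :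
    MinOffM (zl (S : Subgroup G) P) (S : Subgroup G) (MulAut.conj m • Wf V F) := by
  have w' := wfr_conj w hm hW
  have h' := fr_conj h hm (ch_inv hm ⟨P, hP⟩ hW)
  have hb' := hb.conj h.MV hm
  have hk := hb'.key h'
  have hact : ¬ Wf V (MulAut.conj m • F) ≤ o2 P := by
    rw [← WW_conj (h.MV hm), ← hP.inf_centralizer S h.hc]
    exact fun h1 => hmov (h1.trans inf_le_right)
  have a := w'.act hP hcv hact
  have hoff := a.offM
  have hcst := const_W h' hk (zl_le_BL h' hn w'.WS hP)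
  rw [← WW_conj (h.MV hm)] at hoff hcst
  exact min_of_const hFF h.hc hP hcv hW hoff hcst

/-! ### `I = V_P F` -/

open Cfsg.Agent.Omega.FFThm (NatK NatKM SymKM ActsSL) in
open Cfsg.Agent.Omega.Half (Amb amb_of_loc) in
open Cfsg.Agent.Omega.NO1.NSix in
open Cfsg.Agent.Omega.NatPair (ap ext2 ap_zero' ap_one' exists_ap ap_one) in
open Cfsg.Agent.Lib.SL2Mat in
open Cfsg.Agent.Omega.NOThreeL.Low.PSeven (blk_em em_blk blk_mul blk_inv blk_ext) in
open Cfsg.Agent.Omega.NOThreeL.NF.NatR (ln) in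
/-- `|I : F| ≤ 2` or `|I : F| ≤ |K|`, natural case. -/
theorem i_le_nat {B : Subgroup G} {K : Type} [Field K] [Finite K] [CharP K 2] {k : ℕ}
    (N : NatKM K (S : Subgroup G) P (zl (S : Subgroup G) P) ⊥ k)
    (hc : IsCharacteristicTwoType G) (hP : IsParS (S : Subgroup G) P)
    (bh : BH V F B) (hsq : ∀ b ∈ B, b ^ 2 = 1) (hBS : B ≤ (S : Subgroup G)) (hUV : zl (S : Subgroup G) P ≤ V)
    (hUE : ¬ zl (S : Subgroup G) P ≤ EE V F) :
    F.relIndex (V ⊓ B) ≤ 2 ∨ F.relIndex (V ⊓ B) ≤ Nat.card K := by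
  rw [or_iff_not_imp_left]
  intro h2
  push Not at h2
  have hQ := qb (P := P) bh hsq hBS hUV h2
  have hA : Amb (S : Subgroup G) P (zl (S : Subgroup G) P) := amb_of_loc hc S hP.toIsPar.isLoc
  -- a bad block
  obtain ⟨i, w, hw, hwE⟩ : ∃ i : Fin k, ∃ w, Blk N i w ∧ w ∉ EE V F := by
    by_contra hall
    push Not at hall
    exact hUE fun v hv => mem_of_em N.toNatK hv fun j => hall j _ (em_blk N j _)
  have hi : NOThreeL.Low.Nat.Bad N.toNatK (EE V F) i := by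
    refine ⟨N.e w i, ?_⟩
    rwa [blk_em N hw]
  have hact : ∀ b ∈ B, ∃ x : K, ∀ v, Blk N i v →
      Blk N i (b * v * b⁻¹) ∧ N.e (b * v * b⁻¹) i = ap (up x) (N.e v i) := by
    intro b hb
    obtain ⟨x, hx⟩ := hQ.exists_up hA hi hb
    refine ⟨x, fun v hv => ⟨⟨hA.conj_mem (hQ.BP hA hb) hv.1, fun j hj => ?_⟩, hx v hv.1⟩⟩
    obtain ⟨σ, hσ⟩ := N.perm b (hQ.BP hA hb)
    have hσi : σ i = i := hQ.fix hA hi hb hσ
    have h1 := (hσ v hv.1 (σ.symm j)).2 (hv.2 _ fun h2 => hj (by rw [← hσi, ← h2, σ.apply_symm_apply]))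
    rwa [σ.apply_symm_apply] at h1
  classical
  choose x hx using hact
  have act : NOThreeL.Low.PSeven.Act N B i (fun b => if hb : b ∈ B then x b hb else 0) := by
    intro b hb v hv
    have h1 := hx b hb v hv
    simp only [dif_pos hb]
    exact h1
  have hln : F.relIndex (V ⊓ B) ≤ F.relIndex (ln N {i}) := by
    refine Pas.relIndex_le_of_span fun y hy => ?_
    obtain ⟨b, hb, hby⟩ := bh.surj (hUV hw.1) hwE hy
    refine ⟨c w b, ?_, bh.c_memI (hUV hw.1) hb, hby⟩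
    have h3 := act.c_blk hb hw
    refine ⟨h3.1, fun j => ?_, fun j hj => h3.2 j hj⟩
    by_cases hj : j = i
    · subst hj
      exact act.c_one hb hw
    · rw [h3.2 j hj]
      rfl
  refine hln.trans ?_
  rw [← NOThreeL.NF.NatR.card_ln (M := N) i]
  exact Nat.le_of_dvd Nat.card_pos (relIndex_dvd_card _ _)

/-- `|I : F| ≤ 2`, symmetric case. -/
theorem i_le_sym {B : Subgroup G} {k m : ℕ} (M : FFThm.SymKM (S : Subgroup G) P (zl (S : Subgroup G) P) ⊥ k m)
    (hP : IsParS (S : Subgroup G) P)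
    (bh : BH V F B) (hsq : ∀ b ∈ B, b ^ 2 = 1) (hBS : B ≤ (S : Subgroup G)) (hUV : zl (S : Subgroup G) P ≤ V)
    (hUE : ¬ zl (S : Subgroup G) P ≤ EE V F) : F.relIndex (V ⊓ B) ≤ 2 := by
  by_contra h2
  push Not at h2
  have hQ := qb (P := P) bh hsq hBS hUV h2
  refine hUE (NOThreeL.Low.SymCase.le_of_t1 M.toSymK hP.le (MinSimple.VModule.le_normalizer_zl _ _) hBS ?_ ?_)
  · exact fun w hw b hb b' hb' => hQ.quad w hw b hb b' hb'
  · exact fun w hw hwE h1 => hQ.t1 w hw hwE h1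

/-- **`|I : F| ≤ |V_P : V_P ∩ F|`**, if a line of type `P` at distance `≤ n` is bad. -/
theorem I_le {M : Subgroup G} {n : ℕ} (h : Fr S M V F n) (hP : IsParS (S : Subgroup G) P)
    (hT : Tp (S : Subgroup G) P) {j : ℕ} (hj : j ≤ n) {g : G} (hg : Ch M (S : Subgroup G) (Wf V F) j g)
    (hUE : ¬ MulAut.conj g • zl (S : Subgroup G) P ≤ EE V F)
    (hmin : MinOffM (zl (S : Subgroup G) P) (S : Subgroup G) (Wf V F))
    (hex : (centralizer (zl (S : Subgroup G) P : Set G)).relIndex (Wf V F) = F.relIndex (zl (S : Subgroup G) P)) :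
    F.relIndex (V ⊓ BL M (S : Subgroup G) V F n) ≤ F.relIndex (zl (S : Subgroup G) P) := by
  have hgM : g ∈ M := h.mem_M hg
  have hgV := h.MV hgM
  have hgV' : g⁻¹ ∈ normalizer (V : Set G) := inv_mem hgV
  have eE : EE V (MulAut.conj g⁻¹ • F) = MulAut.conj g⁻¹ • EE V F := (EE_conj hgV').symm
  have b' := (bh h).conj hgV'
  have e1 : V ⊓ MulAut.conj g⁻¹ • BL M (S : Subgroup G) V F n =
      MulAut.conj g⁻¹ • (V ⊓ BL M (S : Subgroup G) V F n) := by
    rw [Subgroup.smul_inf, conj_eq_of_norm hgV']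
  have hsq : ∀ b ∈ MulAut.conj g⁻¹ • BL M (S : Subgroup G) V F n, b ^ 2 = 1 := by
    intro b hb
    rw [mem_conj] at hb
    have h2 := h.sup_sq _ hb
    rw [inv_inv] at h2
    have e : b ^ 2 = g⁻¹ * (g * b * g⁻¹) ^ 2 * g := by rw [pow_two, pow_two]; group
    rw [e, h2]
    group
  have hBS : MulAut.conj g⁻¹ • BL M (S : Subgroup G) V F n ≤ (S : Subgroup G) := by
    have h2 := conj_le_iff (g := g⁻¹).2 (BL_le_conj h hj hg)
    rwa [conj_conj, inv_mul_cancel, map_one, one_smul] at h2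
  have hU : ¬ zl (S : Subgroup G) P ≤ EE V (MulAut.conj g⁻¹ • F) := by
    intro h2
    apply hUE
    rw [eE] at h2
    have h3 := conj_le_iff (g := g).2 h2
    rwa [conj_conj, mul_inv_cancel, map_one, one_smul] at h3
  have hi : F.relIndex (V ⊓ BL M (S : Subgroup G) V F n) =
      (MulAut.conj g⁻¹ • F).relIndex (V ⊓ MulAut.conj g⁻¹ • BL M (S : Subgroup G) V F n) := by
    rw [e1, relIndex_pointwise_smul]
  have h2 : 2 ≤ F.relIndex (zl (S : Subgroup G) P) := by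
    have h3 : F.relIndex (zl (S : Subgroup G) P) ≠ 0 := index_ne_zero_of_finite
    have h4 : F.relIndex (zl (S : Subgroup G) P) ≠ 1 := by
      rw [← hex]
      intro h4
      exact hmin.off.ne (relIndex_eq_one.1 h4)
    omega
  rcases hT with ⟨K, _, _, _, k, hk, ⟨N⟩⟩ | ⟨k, m, hk, hm, ⟨N⟩⟩
  · have h3 := i_le_nat N h.hc hP b' hsq hBS (h.zl_le_V hP) hU
    rw [← hi] at h3
    rcases h3 with h3 | h3
    · exact h3.trans h2
    · have hPW : P ≤ normalizer (zl (S : Subgroup G) P : Set G) := MinSimple.VModule.le_normalizer_zl _ _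
      obtain ⟨i, hr⟩ := NOThreeL.NF.NatR.Rt.of (M := N) hPW hP.le hmin
      rwa [← hex, hr.relIndex hPW hP.le]
  · have h3 := i_le_sym N hP b' hsq hBS (h.zl_le_V hP) hU
    rw [← hi] at h3
    exact h3.trans h2

/-- **`I = V_P F`**. -/
theorem I_eq {M : Subgroup G} {n : ℕ}
    (hle : F.relIndex (V ⊓ BL M (S : Subgroup G) V F n) ≤ F.relIndex (zl (S : Subgroup G) P))
    (hL : zl (S : Subgroup G) P ≤ V ⊓ BL M (S : Subgroup G) V F n) :
    ∀ r ∈ V ⊓ BL M (S : Subgroup G) V F n, ∃ l ∈ zl (S : Subgroup G) P, l⁻¹ * r ∈ F := by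
  intro r hr
  have hcos : Cos id (zl (S : Subgroup G) P) F (V ⊓ BL M (S : Subgroup G) V F n) F :=
    ⟨fun u hu => hL hu, fun _ _ _ _ => Iff.rfl⟩
  exact hcos.surj hle hr

/-! ### the instance -/

/-- The situation: `n ≥ 2`, `P` active with `C_Z(P) = 1`, a line of type `P` at distance `≤ n` is bad, `P'` passive. -/
structure Dat (S : Sylow 2 G) (M V F P P' : Subgroup G) (n : ℕ) : Prop where
  w : WFr S M V F
  h : Fr S M V F n
  two : 2 ≤ n
  hP : IsParS (S : Subgroup G) P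
  cv : cv (S : Subgroup G) P = ⊥
  act : ¬ Wf V F ≤ o2 P
  bad : ∃ j ≤ n, ∃ g, Ch M (S : Subgroup G) (Wf V F) j g ∧ ¬ MulAut.conj g • zl (S : Subgroup G) P ≤ EE V F
  hP' : IsParS (S : Subgroup G) P'
  pas : Wf V F ≤ o2 P'
  le : zl (S : Subgroup G) P' ≤ zl (S : Subgroup G) P

namespace Dat

variable {M P' : Subgroup G} {n : ℕ} (d : Dat S M V F P P' n) (hFF : StmtM.{u})
include d

theorem mov : ¬ Wf V F ≤ centralizer (zl (S : Subgroup G) P : Set G) := d.w.mov d.hP d.act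

theorem one_le : 1 ≤ n := le_trans (by norm_num) d.two

theorem L_le : zl (S : Subgroup G) P ≤ V ⊓ BL M (S : Subgroup G) V F n := zl_le_BL d.h d.one_le d.w.WS d.hP

theorem not_I_le : ¬ V ⊓ BL M (S : Subgroup G) V F n ≤ F := by
  intro h1
  apply d.mov
  intro s hs
  rw [mem_centralizer_iff]
  exact fun l hl => NOne.Flat.Hyp.F_comm (h1 (d.L_le hl)) (NOne.Flat.Hyp.W_le_X hs)

include hFF in
theorem tp : Tp (S : Subgroup G) P := by
  obtain ⟨j, hj, g, hg, hbad⟩ := d.bad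
  exact fr_tp d.h hFF (d.w.low P d.hP) hj hg d.hP d.cv d.not_I_le hbad

include hFF in
theorem badL : BadL M S V F n := by
  obtain ⟨j, hj, g, hg, hbad⟩ := d.bad
  exact ⟨j, hj, g, hg, P, d.hP, d.tp hFF, hbad⟩

theorem WS' {g : G} (hg : g ∈ P') : MulAut.conj g • Wf V F ≤ (S : Subgroup G) := by
  have h1 := conj_le_iff (g := g).2 d.pas
  rw [conj_eq_of_norm (MinSimple.VModule.le_normalizer_o2 P' hg)] at h1
  exact h1.trans (d.hP'.isLoc.o2_le S)

theorem W_le {g : G} (hg : g ∈ P') : Wf V F ≤ MulAut.conj g • (S : Subgroup G) :=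
  conj_inv_le (d.WS' (inv_mem hg))

theorem a : BetaFF.Act S P V F := d.w.act d.hP d.cv d.act

include hFF in
theorem min : MinOffM (zl (S : Subgroup G) P) (S : Subgroup G) (Wf V F) := by
  have h1 := dich hFF d.w d.h d.one_le (d.badL hFF) d.hP d.cv (one_mem M)
    (by rw [map_one, one_smul]; exact d.w.WS) (by rw [map_one, one_smul]; exact d.mov)
  rwa [map_one, one_smul] at h1

include hFF in
/-- **422's `Sit`** -/
theorem sit : Sit (S : Subgroup G) V F (BL M (S : Subgroup G) V F n) P P' (zl (S : Subgroup G) P) where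
  toBH := bh d.h
  SP := d.hP.le
  SP' := d.hP'.le
  PV := d.w.PV d.hP
  PV' := d.w.PV d.hP'
  PL := MinSimple.VModule.le_normalizer_zl _ _
  PQ := d.w.PQ d.hP
  QS := fun g hg => by
    have h1 : (S : Subgroup G) ⊓ centralizer (zl (S : Subgroup G) P : Set G) ≤ o2 P' := by
      rw [← d.hP'.inf_centralizer S d.w.hc]
      exact inf_le_inf_left _ (centralizer_le d.le)
    refine h1.trans ?_
    rw [← conj_eq_of_norm (MinSimple.VModule.le_normalizer_o2 P' hg)]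
    exact conj_le_iff.2 (d.hP'.isLoc.o2_le S)
  WS := d.w.WS
  WS' := fun g hg => d.WS' hg
  LV := d.w.zl_le_V d.hP
  LB := fun g hg => line_le_BL d.h d.one_le (d.w.PM P' d.hP' hg) (d.W_le hg) d.hP
  mov := d.mov
  rt := LRoot.of_rp (rp_of_concl d.w.hc d.hP d.cv (d.a.ff hFF).2) (AllGood.same hFF d.w.hc S d.hP d.cv)
  dich := fun y hy hm => dich hFF d.w d.h d.one_le (d.badL hFF) d.hP d.cv (d.w.PM P' d.hP' hy) (d.WS' hy) hm
  irr := fun X hX hPX hne => irr d.a hFF X hX hPX hne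
  cvq := cvq d.a hFF
  I_eq := by
    obtain ⟨j, hj, g, hg, hbad⟩ := d.bad
    refine I_eq (I_le d.h d.hP (d.tp hFF) hj hg hbad (d.min hFF) ?_) d.L_le
    rw [d.a.exact hFF, d.a.relIndex_F]

include hFF in
/-- **THEOREM N**, `n ≥ 2`: `P'` normalises `V_P`. -/
theorem norm_le : P' ≤ normalizer (zl (S : Subgroup G) P : Set G) := by
  obtain ⟨p, hp⟩ := exists_gnr hFF d.w.hc d.hP d.cv (d.min hFF)
  have hch : ∀ g ∈ P', Ch M (S : Subgroup G) (Wf V F) 2 (p * g) := fun g hg =>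
    (d.w.ch_par d.hP hp.mem).mul d.hP' hg
  refine (d.sit hFF).main (p := p) ⟨hp.mem, hp.gen, hp.dis⟩ ?_ ?_ ?_
  · exact fun g hg => BL_le_conj d.h d.two (hch g hg)
  · exact fun g hg hE => (Fr.le_BB' (Fr.mem_Gd d.two (hch g hg) d.hP hE)).trans le_sup_left
  · exact fun g hg hE v hv => fr_span d.h d.two (hch g hg) d.hP (d.tp hFF) hE d.not_I_le hv

end Dat

end Cfsg.Agent.Omega.NO3S.NTwo

end

section


/-!
# GammaFF, (S2), (S3): the end (#20049, #20445, #21337)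

* `UpAt S M V F` : either no type is active for `W_F`, or some active type `P` has `C_Z(P) = 1`, `V_R ≤ V_P` for all
  `R ∈ P*(S)` and `V_R = V_P` for the active ones (THEOREM ACT, THEOREM PAS and (S1));
* `good_of_up` : `UpAt` at the nearest bad line ⟹ all lines are good, `⟨Z^⟨P*(S)⟩⟩ ≤ E`.
-/

set_option autoImplicit false
set_option linter.unusedSectionVars false

namespace Cfsg.Agent.Omega.NO3S.NTwo

open Subgroup Cfsg Cfsg.Agent.ZN Cfsg.Agent.Omega.MinPar Cfsg.Agent.Omega.Frame Cfsg.Agent.Omega.FrameNOFF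
open Cfsg.Agent.Omega.NOne.Flat (Hyp EE NN BadX Cos card_mul_relIndex' conj_eq_of_norm conj_centralizer WW_conj
  EE_conj conj_eq_of_cent)
open Cfsg.Agent.Omega.NoFF.Basic (conj_conj mem_conj conj_le_iff conj_le_centralizer comm_symm Gal)
open Cfsg.Agent.Omega.NOThreeL.Low (Tp Blk Fr Ch BB)
open Cfsg.Agent.Omega.FrameFF (cv)
open Cfsg.Agent.Omega.FFThm (OffM NoOverM ConclM StmtM)
open Cfsg.Agent.Omega.NO3S.Pas
open scoped Pointwise commutatorElement

universe u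

local notation "Wf" => Cfsg.Agent.Omega.NOne.Flat.WW

variable {G : Type u} [Group G] [Finite G] {S : Sylow 2 G} {P V F : Subgroup G}

/-- **(S1) + ACT + PAS** at `S` for `W_F ≤ S`. -/
def UpAt (S : Sylow 2 G) (V F : Subgroup G) : Prop :=
  (∀ R, IsParS (S : Subgroup G) R → Wf V F ≤ o2 R) ∨
    ∃ P, IsParS (S : Subgroup G) P ∧ cv (S : Subgroup G) P = ⊥ ∧ ¬ Wf V F ≤ o2 P ∧
      ∀ R, IsParS (S : Subgroup G) R → zl (S : Subgroup G) R ≤ zl (S : Subgroup G) P ∧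
        (¬ Wf V F ≤ o2 R → zl (S : Subgroup G) R = zl (S : Subgroup G) P)

/-- There is a bad line at distance `n` from `S`. -/
def BadAt (S : Sylow 2 G) (V F : Subgroup G) (n : ℕ) : Prop :=
  ∃ g, Gal (PS (S : Subgroup G)) n 1 g ∧ ∃ R, IsParS (S : Subgroup G) R ∧
    ¬ MulAut.conj g • zl (S : Subgroup G) R ≤ EE V F

theorem gal_mem {M : Subgroup G} (hM : ∀ R, IsParS (S : Subgroup G) R → R ≤ M) {n : ℕ} {a g : G}
    (h : Gal (PS (S : Subgroup G)) n a g) (ha : a ∈ M) : g ∈ M := by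
  induction h with
  | zero => exact ha
  | step _ hP hp ih => exact mul_mem (ih ha) (hM _ hP hp)

/-- the first step of a gallery -/
theorem gal_first {n : ℕ} {g : G} (h : Gal (PS (S : Subgroup G)) (n + 1) 1 g) :
    ∃ R, IsParS (S : Subgroup G) R ∧ ∃ m ∈ R, Gal (PS (S : Subgroup G)) n m g := by
  have h1 := h.symm
  generalize hx : (1 : G) = x at h1
  cases h1 with
  | @step _ _ h' p R hg hP hp =>
    refine ⟨R, hP, p⁻¹, inv_mem hp, ?_⟩
    have e : h' = p⁻¹ := eq_inv_of_mul_eq_one_left hx.symm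
    rw [← e]
    exact hg.symm

theorem WFr.mk_conj {M : Subgroup G} (w : WFr S M V F) {a : G} (ha : a ∈ M)
    (hW : Wf V F ≤ MulAut.conj a • (S : Subgroup G)) : WFr S M V (MulAut.conj a⁻¹ • F) :=
  wfr_conj w (inv_mem ha) (by
    have h1 := conj_le_iff (g := a⁻¹).2 hW
    rwa [conj_conj, inv_mul_cancel, map_one, one_smul] at h1)

theorem badAt_conj {M : Subgroup G} (w : WFr S M V F) {a : G} (ha : a ∈ M) {n : ℕ} {g : G}
    (hg : Gal (PS (S : Subgroup G)) n a g) {R : Subgroup G} (hR : IsParS (S : Subgroup G) R)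
    (hb : ¬ MulAut.conj g • zl (S : Subgroup G) R ≤ EE V F) : BadAt S V (MulAut.conj a⁻¹ • F) n := by
  refine ⟨a⁻¹ * g, ?_, R, hR, ?_⟩
  · have h1 := hg.mul_left a⁻¹
    rwa [inv_mul_cancel] at h1
  · rw [← EE_conj (inv_mem (w.MV ha)), ← conj_conj]
    exact fun h1 => hb (conj_le_iff.1 h1)

/-- `Fr` from minimality over all `F'` with `W_F' ≤ S`. -/
theorem fr_of_min {M : Subgroup G} {n : ℕ} (hne : (PS (S : Subgroup G)).Nonempty)
    (hmin : ∀ j < n, ∀ F', WFr S M V F' → ¬ BadAt S V F' j) (w : WFr S M V F) : Fr S M V F n where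
  hc := w.hc
  noff := w.noff
  hyp := w.hyp
  PM := w.PM
  MV := w.MV
  ZV := w.ZV
  least := by
    rintro j hj g ⟨a, ha, haW, hg⟩ R hR
    by_contra hb
    exact hmin j hj _ (WFr.mk_conj w ha haW) (badAt_conj w ha hg hR hb)
  one := Ch.mono (Nat.zero_le n) hne w.ch_one

/-- **(S2), (S3) closed**: all lines are good. -/
theorem no_bad {M : Subgroup G} (hFF : StmtM.{u}) (hne : (PS (S : Subgroup G)).Nonempty)
    (hup : ∀ n F', 1 ≤ n → WFr S M V F' → Fr S M V F' n → BadAt S V F' n → UpAt S V F') :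
    ∀ n F', WFr S M V F' → ¬ BadAt S V F' n := by
  intro n
  induction n using Nat.strong_induction_on with
  | _ n ih =>
  intro F w hbad
  have h := fr_of_min (n := n) hne ih w
  obtain ⟨g, hg, R, hR, hb⟩ := hbad
  -- `n ≥ 1`
  obtain _ | k := n
  · generalize hx : (1 : G) = x at hg
    cases hg
    subst hx
    exact hb (w.good (one_mem M) (by rw [map_one, one_smul]; exact w.WS) hR)
  obtain ⟨R', hR', m, hm, hg'⟩ := gal_first hg
  have hmM : m ∈ M := w.PM R' hR' hm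
  -- the first panel is active
  have hact : ¬ Wf V F ≤ o2 R' := by
    intro hpas
    have h1 : Wf V F ≤ MulAut.conj m • (S : Subgroup G) := by
      have h2 := conj_le_iff (g := m).2 (hR'.isLoc.o2_le S)
      rw [conj_eq_of_norm (MinSimple.VModule.le_normalizer_o2 R' hm)] at h2
      exact hpas.trans h2
    exact ih k (by omega) _ (WFr.mk_conj w hmM h1) (badAt_conj w hmM hg' hR hb)
  rcases hup (k + 1) F (by omega) w h ⟨g, hg, R, hR, hb⟩ with h1 | ⟨P, hP, hcv, hPact, hle⟩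
  · exact hact (h1 R' hR')
  have hgood : zl (S : Subgroup G) P ≤ EE V F := w.zl_le_E hP
  have hbP : ¬ MulAut.conj g • zl (S : Subgroup G) P ≤ EE V F := fun h1 =>
    hb ((conj_le_iff.2 (hle R hR).1).trans h1)
  -- `n ≥ 2`
  have hk : 2 ≤ k + 1 := by
    by_contra hk
    obtain rfl : k = 0 := by omega
    cases hg'
    apply hbP
    rw [← (hle R' hR').2 hact, conj_eq_of_norm (MinSimple.VModule.le_normalizer_zl _ _ hm),
      (hle R' hR').2 hact]
    exact hgood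
  -- all types normalise `V_P`
  have hnorm : ∀ R, IsParS (S : Subgroup G) R → R ≤ normalizer (zl (S : Subgroup G) P : Set G) := by
    intro Q hQ
    by_cases hQp : Wf V F ≤ o2 Q
    · refine Dat.norm_le (n := k + 1) (M := M) (F := F) ⟨w, h, hk, hP, hcv, hPact, ?_, hQ, hQp, (hle Q hQ).1⟩ hFF
      exact ⟨k + 1, le_rfl, g, ⟨1, one_mem M, by rw [map_one, one_smul]; exact w.WS, hg⟩, hbP⟩
    · rw [← (hle Q hQ).2 hQp]
      exact MinSimple.VModule.le_normalizer_zl _ _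
  apply hbP
  rw [conj_eq_of_norm (gal_mem hnorm hg (one_mem _))]
  exact hgood

/-- all elements of `⟨P*(S)⟩` are reached by galleries -/
theorem exists_gal {g : G} (hg : g ∈ NOThreeL.Star.YS (S : Subgroup G)) : ∃ n, Gal (PS (S : Subgroup G)) n 1 g := by
  have hg' : g ∈ ⨆ i : PS (S : Subgroup G), (i : Subgroup G) := by
    rw [← sSup_eq_iSup']
    exact hg
  induction hg' using Subgroup.iSup_induction' with
  | hp i x hx =>
    refine ⟨1, ?_⟩
    have := Gal.one (F := PS (S : Subgroup G)) i.2 (g := 1) hx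
    rwa [one_mul] at this
  | h1 => exact ⟨0, Gal.zero _⟩
  | hmul x y hx' hy' hx hy =>
    obtain ⟨n, hn⟩ := hx (by
      change x ∈ sSup (PS (S : Subgroup G))
      rw [sSup_eq_iSup']
      exact hx')
    obtain ⟨k, hk⟩ := hy (by
      change y ∈ sSup (PS (S : Subgroup G))
      rw [sSup_eq_iSup']
      exact hy')
    refine ⟨n + k, hn.trans ?_⟩
    have := hk.mul_left x
    rwa [mul_one] at this

/-- **`⟨Z^⟨P*(S)⟩⟩ ≤ E`** -/
theorem all_good {M : Subgroup G} (hFF : StmtM.{u}) (w : WFr S M V F) (hP : IsParS (S : Subgroup G) P)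
    (hup : ∀ n F', 1 ≤ n → WFr S M V F' → Fr S M V F' n → BadAt S V F' n → UpAt S V F') :
    zl (S : Subgroup G) (NOThreeL.Star.YS (S : Subgroup G)) ≤ EE V F := by
  refine AllGood.zl_le_of (R := P) fun g hg => ?_
  obtain ⟨n, hn⟩ := exists_gal hg
  by_contra hb
  exact no_bad hFF ⟨P, hP⟩ hup n F w ⟨g, hn, P, hP, hb⟩

end Cfsg.Agent.Omega.NO3S.NTwo

end

section


/-!
# GammaFF: `UpAt` from the KEY (THEOREM ACT + THEOREM PAS)

* `upAt` : the KEY for the nearest bad line and `C_Z(R) = 1` for the active types `R` give `UpAt S V F`;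
* `upAt'` : the same from one active type `P` with `C_Z(P) = 1` ((S1)) and ACT (0);
* `upAt_one` : the same from one active type `P` with `C_Z(P) = 1` (ACT (0) plugged);
* `all_good_of_key` : `⟨Z^⟨P*(S)⟩⟩ ≤ E` from the KEY and `C_Z(R) = 1` for the active types, for all conjugates of `F`;
* `all_good_of_one` : `⟨Z^⟨P*(S)⟩⟩ ≤ E` from the KEY and (S1).
-/

set_option autoImplicit false
set_option linter.unusedSectionVars false

namespace Cfsg.Agent.Omega.NO3S.NTwo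

open Subgroup Cfsg Cfsg.Agent.ZN Cfsg.Agent.Omega.MinPar Cfsg.Agent.Omega.Frame Cfsg.Agent.Omega.FrameNOFF
open Cfsg.Agent.Omega.NOne.Flat (EE)
open Cfsg.Agent.Omega.NOThreeL.Low (Fr)
open Cfsg.Agent.Omega.FrameFF (cv)
open Cfsg.Agent.Omega.FFThm (StmtM)
open Cfsg.Agent.Omega.NO3S.Pas

universe u

local notation "Wf" => Cfsg.Agent.Omega.NOne.Flat.WW

variable {G : Type u} [Group G] [Finite G] {S : Sylow 2 G} {M V F : Subgroup G} {n : ℕ}

/-- **UpAt** from the KEY and `C_Z(R) = 1` for the active types. -/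
theorem upAt (hFF : StmtM.{u}) (w : WFr S M V F) (h : Fr S M V F n) (hn : 1 ≤ n)
    (hk : ∀ P, IsParS (S : Subgroup G) P → cv (S : Subgroup G) P = ⊥ → ¬ Wf V F ≤ o2 P →
      Key V F (BL M (S : Subgroup G) V F n))
    (hcv : ∀ R, IsParS (S : Subgroup G) R → ¬ Wf V F ≤ o2 R → cv (S : Subgroup G) R = ⊥) : UpAt S V F := by
  by_cases hact : ∀ R, IsParS (S : Subgroup G) R → Wf V F ≤ o2 R
  · exact Or.inl hact
  push Not at hact
  obtain ⟨P, hP, hPa⟩ := hact
  have hk' := hk P hP (hcv P hP hPa) hPa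
  have heq : ∀ R, IsParS (S : Subgroup G) R → ¬ Wf V F ≤ o2 R → zl (S : Subgroup G) R = zl (S : Subgroup G) P :=
    fun R hR hRa => w.act_eq h hn hFF hk' hP (hcv P hP hPa) hPa hR (hcv R hR hRa) hRa
  refine Or.inr ⟨P, hP, hcv P hP hPa, hPa, fun R hR => ⟨?_, heq R hR⟩⟩
  by_cases hRa : Wf V F ≤ o2 R
  · exact w.passive hFF h hn hP (hcv P hP hPa) hPa hk' hR hRa
  · exact (heq R hR hRa).le

/-- **UpAt** from one active type with `C_Z(P) = 1` ((S1)) and ACT (0). -/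
theorem upAt' (hFF : StmtM.{u}) (w : WFr S M V F) (h : Fr S M V F n) (hn : 1 ≤ n)
    (hk : ∀ P, IsParS (S : Subgroup G) P → cv (S : Subgroup G) P = ⊥ → ¬ Wf V F ≤ o2 P →
      Key V F (BL M (S : Subgroup G) V F n))
    (hone : (∃ R, IsParS (S : Subgroup G) R ∧ ¬ Wf V F ≤ o2 R) →
      ∃ P, IsParS (S : Subgroup G) P ∧ cv (S : Subgroup G) P = ⊥ ∧ ¬ Wf V F ≤ o2 P)
    (hzero : ∀ P, IsParS (S : Subgroup G) P → cv (S : Subgroup G) P = ⊥ → ¬ Wf V F ≤ o2 P →
      ∀ R, IsParS (S : Subgroup G) R → ¬ Wf V F ≤ o2 R → cv (S : Subgroup G) R = ⊥) : UpAt S V F := by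
  by_cases hact : ∃ R, IsParS (S : Subgroup G) R ∧ ¬ Wf V F ≤ o2 R
  · obtain ⟨P, hP, hc, hPa⟩ := hone hact
    exact upAt hFF w h hn hk (hzero P hP hc hPa)
  · push Not at hact
    exact Or.inl hact

/-- **`⟨Z^⟨P*(S)⟩⟩ ≤ E`** from the KEY and `C_Z(R) = 1` for the active types. -/
theorem all_good_of_key {P : Subgroup G} (hFF : StmtM.{u}) (w : WFr S M V F) (hP : IsParS (S : Subgroup G) P)
    (hk : ∀ n F', 1 ≤ n → WFr S M V F' → Fr S M V F' n → BadAt S V F' n →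
      ∀ P, IsParS (S : Subgroup G) P → cv (S : Subgroup G) P = ⊥ → ¬ Wf V F' ≤ o2 P →
        Key V F' (BL M (S : Subgroup G) V F' n))
    (hcv : ∀ F', WFr S M V F' → ∀ R, IsParS (S : Subgroup G) R → ¬ Wf V F' ≤ o2 R → cv (S : Subgroup G) R = ⊥) :
    zl (S : Subgroup G) (NOThreeL.Star.YS (S : Subgroup G)) ≤ EE V F :=
  all_good hFF w hP fun n F' hn w' h' hb => upAt hFF w' h' hn (hk n F' hn w' h' hb) (hcv F' w')

/-- **UpAt** from the KEY and one active type with `C_Z(P) = 1` ((S1)). -/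
theorem upAt_one (hFF : StmtM.{u}) (w : WFr S M V F) (h : Fr S M V F n) (hn : 1 ≤ n)
    (hk : ∀ P, IsParS (S : Subgroup G) P → cv (S : Subgroup G) P = ⊥ → ¬ Wf V F ≤ o2 P →
      Key V F (BL M (S : Subgroup G) V F n))
    (hone : (∃ R, IsParS (S : Subgroup G) R ∧ ¬ Wf V F ≤ o2 R) →
      ∃ P, IsParS (S : Subgroup G) P ∧ cv (S : Subgroup G) P = ⊥ ∧ ¬ Wf V F ≤ o2 P) : UpAt S V F :=
  upAt' hFF w h hn hk hone fun P hP hc hPa _ hR hRa => w.cv_eq h hFF (hk P hP hc hPa) hP hc hPa hR hRa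

/-- **`⟨Z^⟨P*(S)⟩⟩ ≤ E`** from the KEY and (S1). -/
theorem all_good_of_one {P : Subgroup G} (hFF : StmtM.{u}) (w : WFr S M V F) (hP : IsParS (S : Subgroup G) P)
    (hk : ∀ n F', 1 ≤ n → WFr S M V F' → Fr S M V F' n → BadAt S V F' n →
      ∀ P, IsParS (S : Subgroup G) P → cv (S : Subgroup G) P = ⊥ → ¬ Wf V F' ≤ o2 P →
        Key V F' (BL M (S : Subgroup G) V F' n))
    (hone : ∀ n F', 1 ≤ n → WFr S M V F' → Fr S M V F' n → BadAt S V F' n →
      (∃ R, IsParS (S : Subgroup G) R ∧ ¬ Wf V F' ≤ o2 R) →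
        ∃ P, IsParS (S : Subgroup G) P ∧ cv (S : Subgroup G) P = ⊥ ∧ ¬ Wf V F' ≤ o2 P) :
    zl (S : Subgroup G) (NOThreeL.Star.YS (S : Subgroup G)) ≤ EE V F :=
  all_good hFF w hP fun n F' hn w' h' hb => upAt_one hFF w' h' hn (hk n F' hn w' h' hb) (hone n F' hn w' h' hb)

end Cfsg.Agent.Omega.NO3S.NTwo

end

section


/-!
# GammaFF: `⟨Z^⟨P*(S)⟩⟩ ≤ E` from one active `P` with `C_Z(P) = 1` (the mixed case)

The galleries are considered relative to the class `{F^m : m ∈ M}` of one `F` with an active `P`, `C_Z(P) = 1`.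

* `fr_of_cls`, `no_bad_cls`, `all_good_cls` : 424's `no_bad` relative to a class `C` of conjugates;
* `card_zc_le` : `|Z| ≤ |[V_P, W]|` if `|Z| ≥ 4`;
* `four_le` : `P` active for `F`, `C_Z(P) = 1`, KEY; `R` active for `F^m`, `C_Z(R) ≠ 1` ⟹ `|[V_R, W^m]| ≥ 4`, and `W^m`
  has constant commutators on `V_R`;
* `all_good_mixed` : `⟨Z^⟨P*(S)⟩⟩ ≤ E`, if there is no `F' = F^m`, `W_F' ≤ S`, with an active type `R`, `C_Z(R) ≠ 1`,
  `|[V_R, W_F']| ≥ 4`, such that all types `Q` with `C_Z(Q) = 1` are passive.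
-/

set_option autoImplicit false
set_option linter.unusedSectionVars false

namespace Cfsg.Agent.Omega.NO3S.NTwo

open Subgroup Cfsg Cfsg.Agent.ZN Cfsg.Agent.Omega.MinPar Cfsg.Agent.Omega.Frame Cfsg.Agent.Omega.FrameNOFF
open Cfsg.Agent.Omega.NOne.Flat (EE WW_conj EE_conj conj_eq_of_norm)
open Cfsg.Agent.Omega.NOne.NearFF (c c_def)
open Cfsg.Agent.Omega.NoFF.Basic (conj_conj mem_conj conj_le_iff Gal)
open Cfsg.Agent.Omega.NOThreeL.Low (Fr Ch)
open Cfsg.Agent.Omega.FrameFF (cv)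
open Cfsg.Agent.Omega.FFThm (StmtM)
open Cfsg.Agent.Omega.NO3S.Pas
open Cfsg.Agent.Omega.NOThreeL.NF.NatR (Const)
open scoped Pointwise commutatorElement

universe u

set_option maxHeartbeats 400000

local notation "Wf" => Cfsg.Agent.Omega.NOne.Flat.WW

variable {G : Type u} [Group G] [Finite G] {S : Sylow 2 G} {M V F : Subgroup G} {n : ℕ}

/-! ### The galleries relative to a class of conjugates -/

section cls

variable {C : Subgroup G → Prop} (hC : ∀ F' a, C F' → a ∈ M → C (MulAut.conj a • F'))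
include hC

/-- `Fr` from minimality over the class. -/
theorem fr_of_cls (hne : (PS (S : Subgroup G)).Nonempty)
    (hmin : ∀ j < n, ∀ F', C F' → WFr S M V F' → ¬ BadAt S V F' j) (hF : C F) (w : WFr S M V F) :
    Fr S M V F n where
  hc := w.hc
  noff := w.noff
  hyp := w.hyp
  PM := w.PM
  MV := w.MV
  ZV := w.ZV
  least := by
    rintro j hj g ⟨a, ha, haW, hg⟩ R hR
    by_contra hb
    exact hmin j hj _ (hC _ _ hF (inv_mem ha)) (WFr.mk_conj w ha haW) (badAt_conj w ha hg hR hb)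
  one := Ch.mono (Nat.zero_le n) hne w.ch_one

/-- **(S2), (S3) closed**, relative to a class. -/
theorem no_bad_cls (hFF : StmtM.{u}) (hne : (PS (S : Subgroup G)).Nonempty)
    (hup : ∀ n F', 1 ≤ n → C F' → WFr S M V F' → (∀ F'', C F'' → WFr S M V F'' → Fr S M V F'' n) →
      BadAt S V F' n → UpAt S V F') :
    ∀ n F', C F' → WFr S M V F' → ¬ BadAt S V F' n := by
  intro n
  induction n using Nat.strong_induction_on with
  | _ n ih =>
  intro F hCF w hbad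
  have h := fr_of_cls (n := n) hC hne ih hCF w
  obtain ⟨g, hg, R, hR, hb⟩ := hbad
  -- `n ≥ 1`
  obtain _ | k := n
  · generalize hx : (1 : G) = x at hg
    cases hg
    subst hx
    exact hb (w.good (one_mem M) (by rw [map_one, one_smul]; exact w.WS) hR)
  obtain ⟨R', hR', m, hm, hg'⟩ := gal_first hg
  have hmM : m ∈ M := w.PM R' hR' hm
  -- the first panel is active
  have hact : ¬ Wf V F ≤ o2 R' := by
    intro hpas
    have h1 : Wf V F ≤ MulAut.conj m • (S : Subgroup G) := by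
      have h2 := conj_le_iff (g := m).2 (hR'.isLoc.o2_le S)
      rw [conj_eq_of_norm (MinSimple.VModule.le_normalizer_o2 R' hm)] at h2
      exact hpas.trans h2
    exact ih k (by omega) _ (hC _ _ hCF (inv_mem hmM)) (WFr.mk_conj w hmM h1) (badAt_conj w hmM hg' hR hb)
  rcases hup (k + 1) F (by omega) hCF w (fun F'' h1 h2 => fr_of_cls hC hne ih h1 h2) ⟨g, hg, R, hR, hb⟩ with
    h1 | ⟨P, hP, hcv, hPact, hle⟩
  · exact hact (h1 R' hR')
  have hgood : zl (S : Subgroup G) P ≤ EE V F := w.zl_le_E hP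
  have hbP : ¬ MulAut.conj g • zl (S : Subgroup G) P ≤ EE V F := fun h1 =>
    hb ((conj_le_iff.2 (hle R hR).1).trans h1)
  -- `n ≥ 2`
  have hk : 2 ≤ k + 1 := by
    by_contra hk
    obtain rfl : k = 0 := by omega
    cases hg'
    apply hbP
    rw [← (hle R' hR').2 hact, conj_eq_of_norm (MinSimple.VModule.le_normalizer_zl _ _ hm),
      (hle R' hR').2 hact]
    exact hgood
  -- all types normalise `V_P`
  have hnorm : ∀ R, IsParS (S : Subgroup G) R → R ≤ normalizer (zl (S : Subgroup G) P : Set G) := by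
    intro Q hQ
    by_cases hQp : Wf V F ≤ o2 Q
    · refine Dat.norm_le (n := k + 1) (M := M) (F := F) ⟨w, h, hk, hP, hcv, hPact, ?_, hQ, hQp, (hle Q hQ).1⟩ hFF
      exact ⟨k + 1, le_rfl, g, ⟨1, one_mem M, by rw [map_one, one_smul]; exact w.WS, hg⟩, hbP⟩
    · rw [← (hle Q hQ).2 hQp]
      exact MinSimple.VModule.le_normalizer_zl _ _
  apply hbP
  rw [conj_eq_of_norm (gal_mem hnorm hg (one_mem _))]
  exact hgood

/-- **`⟨Z^⟨P*(S)⟩⟩ ≤ E`**, relative to a class. -/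
theorem all_good_cls {P : Subgroup G} (hFF : StmtM.{u}) (hF : C F) (w : WFr S M V F)
    (hP : IsParS (S : Subgroup G) P)
    (hup : ∀ n F', 1 ≤ n → C F' → WFr S M V F' → (∀ F'', C F'' → WFr S M V F'' → Fr S M V F'' n) →
      BadAt S V F' n → UpAt S V F') :
    zl (S : Subgroup G) (NOThreeL.Star.YS (S : Subgroup G)) ≤ EE V F := by
  refine AllGood.zl_le_of (R := P) fun g hg => ?_
  obtain ⟨n, hn⟩ := exists_gal hg
  by_contra hb
  exact no_bad_cls hC hFF ⟨P, hP⟩ hup n F hF w ⟨g, hn, P, hP, hb⟩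

end cls

/-! ### `|[V_R, W^m]| ≥ 4` -/

/-- `|Z| ≤ |[V_P, W]|` -/
theorem card_zc_le (hFF : StmtM.{u}) {P : Subgroup G} (a : BetaFF.Act S P V F)
    (hm : NOThreeL.NF.MinOffM (zl (S : Subgroup G) P) (S : Subgroup G) (Wf V F))
    (h4 : 4 ≤ Nat.card (zc (S : Subgroup G))) :
    Nat.card (zc (S : Subgroup G)) ≤ Nat.card ↥(⁅zl (S : Subgroup G) P, Wf V F⁆ : Subgroup G) := by
  have hcon := (a.ff hFF).2
  have hrp := rp_of_concl a.char2 a.par a.cv hcon
  rcases hcon with ⟨K, fK, fiK, cK, k, hk, ⟨N⟩⟩ | ⟨k, m, hk, hm', ⟨N⟩⟩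
  · have h6 := KeyRad.card_zc_nat a.char2 a.par hk N a.cv
    have hb := ThmB.Inst.nb a.char2 a.par N
    obtain ⟨I, ⟨i, hi⟩, h1, h2⟩ := KeyRad.exists_blocks hb a.WS a.offM
    have h3 := KeyRad.pow_le hb h2
    have h8 : 1 ≤ Nat.card I := Nat.one_le_iff_ne_zero.2 (Nat.card_ne_zero.2 ⟨⟨⟨i, hi⟩⟩, inferInstance⟩)
    rw [hrp.card _ hm, a.exact hFF]
    refine h6.trans (le_trans ?_ h3)
    calc Nat.card K = Nat.card K ^ 1 := (pow_one _).symm
      _ ≤ _ := Nat.pow_le_pow_right Nat.card_pos h8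
  · have h6 := KeyRad.card_zc_sym a.char2 a.par hk hm' N a.cv
    omega

/-- `[V_P, W_F]^m ≤ [V_R, W_F^m]` -/
theorem comm_le_conj {P R : Subgroup G} {B : Subgroup G} (hrp : NOThreeL.NF.RP (S : Subgroup G) P)
    (hr : Root V F B) (hLI : zl (S : Subgroup G) P ≤ B)
    (hm : NOThreeL.NF.MinOffM (zl (S : Subgroup G) P) (S : Subgroup G) (Wf V F)) {m : G}
    (hmV : m ∈ normalizer (V : Set G)) (hLR : MulAut.conj m⁻¹ • zl (S : Subgroup G) R ≤ B)
    (hmv : ¬ Wf V (MulAut.conj m • F) ≤ centralizer (zl (S : Subgroup G) R : Set G)) :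
    MulAut.conj m • ⁅zl (S : Subgroup G) P, Wf V F⁆ ≤ ⁅zl (S : Subgroup G) R, Wf V (MulAut.conj m • F)⁆ := by
  obtain ⟨v, hv, hvc⟩ : ∃ v ∈ zl (S : Subgroup G) R, v ∉ centralizer (Wf V (MulAut.conj m • F) : Set G) := by
    by_contra hcon
    push Not at hcon
    exact hmv (le_centralizer_iff.1 hcon)
  have hvF : m⁻¹ * v * m ∉ F := by
    intro h1
    apply hvc
    rw [mem_centralizer_iff]
    intro w hw
    have h2 : v ∈ MulAut.conj m • F := by rw [mem_conj]; exact h1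
    exact (NOne.Flat.Hyp.F_comm h2 (NOne.Flat.Hyp.W_le_X hw)).symm
  have hvB : m⁻¹ * v * m ∈ B := by
    apply hLR
    rw [mem_conj, inv_inv]
    have e : m * (m⁻¹ * v * m) * m⁻¹ = v := by group
    rwa [e]
  intro x hx
  rw [mem_conj, mem_comm_iff hrp hr hLI hm hvB hvF] at hx
  obtain ⟨a, ha, h1⟩ := hx
  have h2 : x = c v (m * a * m⁻¹) := by
    have e : c v (m * a * m⁻¹) = m * c (m⁻¹ * v * m) a * m⁻¹ := by
      rw [c_def, c_def]; group
    rw [e, h1]
    group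
  rw [h2, c_def, ← commutatorElement_def]
  refine commutator_mem_commutator hv ?_
  rw [← WW_conj hmV, mem_conj]
  have e : m⁻¹ * (m * a * m⁻¹) * m = a := by group
  rwa [e]

/-- **(c)** `P` active for `F`, `C_Z(P) = 1`, KEY; `R` active for `F^m`, `C_Z(R) ≠ 1` ⟹ `|[V_R, W^m]| ≥ 4`, and `W^m` has
constant commutators on `V_R`. -/
theorem four_le (hFF : StmtM.{u}) (w : WFr S M V F) (h : Fr S M V F n) {P : Subgroup G}
    (hP : IsParS (S : Subgroup G) P) (hcv : cv (S : Subgroup G) P = ⊥) (hact : ¬ Wf V F ≤ o2 P)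
    (hk : Key V F (BL M (S : Subgroup G) V F n)) {m : G} (hm : m ∈ M) (w' : WFr S M V (MulAut.conj m • F))
    {R : Subgroup G} (hR : IsParS (S : Subgroup G) R) (hcvR : cv (S : Subgroup G) R ≠ ⊥)
    (hactR : ¬ Wf V (MulAut.conj m • F) ≤ o2 R) :
    4 ≤ Nat.card ↥(⁅zl (S : Subgroup G) R, Wf V (MulAut.conj m • F)⁆ : Subgroup G) ∧
      Const (zl (S : Subgroup G) R) (Wf V (MulAut.conj m • F)) := by
  have a := w.act hP hcv hact
  have hmV := w.MV hm
  have hmin := w.minN hFF h hP hcv hact hk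
  have h4 := KeyRad.four_le_zc w.hc hR hcvR
  have hW : Wf V F ≤ MulAut.conj m⁻¹ • (S : Subgroup G) := by
    have h1 := w'.WS
    rw [← WW_conj hmV] at h1
    exact conj_le_inv h1
  have h1 : MulAut.conj m⁻¹ • zl (S : Subgroup G) R ≤ V ⊓ BL M (S : Subgroup G) V F n :=
    le_inf (h.line_le_V (inv_mem hm) hR) (w.line_le_BN n (inv_mem hm) hW hR)
  have hroot := w.rootN h hP hact hk
  have h2 := comm_le_conj (rp_of_concl w.hc hP hcv (a.ff hFF).2) hroot (w.L_le_IN n hP) hmin hmV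
    h1 (w'.mov hR hactR)
  refine ⟨h4.trans ((card_zc_le hFF a hmin h4).trans (le_trans (le_of_eq ?_) (card_le_of_le h2))),
    (hroot.conj hmV).const ?_⟩
  · exact (Nat.card_congr (Subgroup.equivSMul (MulAut.conj m) _).toEquiv)
  · have h3 := conj_le_iff (g := m).2 h1
    rwa [conj_conj, mul_inv_cancel, map_one, one_smul] at h3

/-- **`⟨Z^⟨P*(S)⟩⟩ ≤ E`** from one active type `P` with `C_Z(P) = 1` and (S1) in the mixed case. -/
theorem all_good_mixed {P : Subgroup G} (hFF : StmtM.{u}) (w : WFr S M V F) (hP : IsParS (S : Subgroup G) P)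
    (hcv : cv (S : Subgroup G) P = ⊥) (hact : ¬ Wf V F ≤ o2 P)
    (hs : ∀ F', WFr S M V F' → ∀ R, IsParS (S : Subgroup G) R → cv (S : Subgroup G) R ≠ ⊥ →
      ¬ Wf V F' ≤ o2 R → (∀ Q, IsParS (S : Subgroup G) Q → cv (S : Subgroup G) Q = ⊥ → Wf V F' ≤ o2 Q) →
        Const (zl (S : Subgroup G) R) (Wf V F') →
          ¬ 4 ≤ Nat.card ↥(⁅zl (S : Subgroup G) R, Wf V F'⁆ : Subgroup G)) :
    zl (S : Subgroup G) (NOThreeL.Star.YS (S : Subgroup G)) ≤ EE V F := by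
  refine all_good_cls (C := fun F' => ∃ m ∈ M, F' = MulAut.conj m • F) ?_ hFF
    ⟨1, one_mem _, by rw [map_one, one_smul]⟩ w hP ?_
  · rintro F' a ⟨m, hm, rfl⟩ ha
    exact ⟨a * m, mul_mem ha hm, by rw [conj_conj]⟩
  rintro n F' hn ⟨m, hm, rfl⟩ w' hfr hbad
  obtain ⟨g, hg, R, hR, hb⟩ := hbad
  refine upAt_one hFF w' (hfr _ ⟨m, hm, rfl⟩ w') hn (fun Q hQ hcQ haQ => ?_) fun ⟨Q, hQ, haQ⟩ => ?_
  · exact KeyRad.key_fr hFF (hfr _ ⟨m, hm, rfl⟩ w') w' hQ hcQ haQ hR le_rfl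
      ⟨1, one_mem M, by rw [map_one, one_smul]; exact w'.WS, hg⟩ hb
  -- an active type with `C_Z = 1`
  by_contra hcon
  push Not at hcon
  have hfr0 := hfr F ⟨1, one_mem _, by rw [map_one, one_smul]⟩ w
  have hbad : ¬ MulAut.conj (m⁻¹ * g) • zl (S : Subgroup G) R ≤ EE V F := by
    intro h1
    apply hb
    have h2 := conj_le_iff (g := m).2 h1
    rw [conj_conj, EE_conj (w.MV hm)] at h2
    rwa [mul_inv_cancel_left] at h2
  have hch : Ch M (S : Subgroup G) (Wf V F) n (m⁻¹ * g) := by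
    have h1 : Ch M (S : Subgroup G) (Wf V (MulAut.conj m • F)) n g :=
      ⟨1, one_mem M, by rw [map_one, one_smul]; exact w'.WS, hg⟩
    rw [← WW_conj (w.MV hm)] at h1
    exact ch_conj' hm h1
  have hk := KeyRad.key_fr hFF hfr0 w hP hcv hact hR le_rfl hch hbad
  obtain ⟨h4, hcst⟩ := four_le hFF w hfr0 hP hcv hact hk hm w' hQ (fun h1 => haQ (hcon Q hQ h1)) haQ
  exact hs _ w' Q hQ (fun h1 => haQ (hcon Q hQ h1)) haQ hcon hcst h4

end Cfsg.Agent.Omega.NO3S.NTwo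

end

section


/-!
# GammaFF: `GamUniq` from (S1) in the local form

* `SFour` : (S1) in the local form `RadW S P R F` for `|[V_R, W_F]| ≥ 4`, `W_F` with constant commutators on `V_R`;
* `gamUniq_of_four` : `SFour → GamUniq K`.
-/

set_option autoImplicit false

namespace Cfsg.Agent.Omega.NO3S.NTwo

open Subgroup Cfsg Cfsg.Agent.ZN Cfsg.Agent.Omega.MinPar Cfsg.Agent.Omega.Frame Cfsg.Agent.Omega.FrameNOFF
open Cfsg.Agent.Omega.FrameFF (cv)
open Cfsg.Agent.Omega.NO3S.Level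
open Cfsg.Agent.Omega.NO3S.GFF.S1 (RadW)
open Cfsg.Agent.Omega.NOThreeL.Merge (MZ)
open scoped commutatorElement

universe u

/-- **(S1)**, local form, `q₀ ≥ 4`, constant commutators. -/
def SFour : Prop :=
  ∀ (G : Type u) [Group G] [Finite G] (S : Sylow 2 G) (P R F : Subgroup G), RadW S P R F →
    NOThreeL.NF.NatR.Const (zl (S : Subgroup G) R) (NOne.Flat.WW (X0 (S : Subgroup G)) F) → ¬ 4 ≤ Nat.card ↥(⁅zl (S : Subgroup G) R, NOne.Flat.WW (X0 (S : Subgroup G)) F⁆ : Subgroup G)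

/-- `⟨Z^⟨P*(S)⟩⟩ ≤ E_F` -/
theorem wst_le (h4 : SFour.{u}) {G : Type u} [Group G] [Finite G] {S : Sylow 2 G} {P F : Subgroup G}
    (h : WSt S P F) (h0 : zc (S : Subgroup G) ⊓ centralizer (P : Set G) = ⊥) :
    zl (S : Subgroup G) (MZ (S : Subgroup G)) ≤ NOne.Flat.EE (X0 (S : Subgroup G)) F := by
  refine all_good_mixed FF.Glob.ffthmM h.wfr h.par (h.cv_eq h0) h.mv ?_
  intro F' w' R hR hcvR haR hpas hcst hc
  obtain ⟨Q, hQ, hN⟩ := h.ex
  have hy := h.toHypC.hypN hQ hN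
  have hw : WSt S R F' := { toW0 := h.toW0, par := hR, hyp := w'.hyp, WS := w'.WS, mv := haR }
  have hz : zc (S : Subgroup G) ⊓ centralizer (R : Set G) ≠ ⊥ := fun h1 =>
    hcvR (NoFF.LinesPlug.inf_oddGen_eq_bot h.ctx.char2 S hR.toIsPar h1)
  exact h4 G S Q R F' { toWSt := hw, pss := ⟨hQ, hN⟩, hz := hz, hp := hpas Q hQ hy.toHyp.cv } hcst hc

/-- **`GamUniq`** -/
theorem gamUniq_of_four (h4 : SFour.{u}) (K : Cls.{u}) : GamUniq K :=
  gamUniq_of_le K fun _ _ _ _ _ _ _ h h0 => Or.inl (wst_le h4 h h0)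

end Cfsg.Agent.Omega.NO3S.NTwo

end

end
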